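import Groth.Agent.CurvSt.K901.LociSub
import Groth.Agent.Synt.K563.SchNhd
import Groth.Agent.Synt.K563.Jac
import Groth.Agent.Synt.K562.RelReg
import Mathlib.RingTheory.DualNumber

/-!
# A non-smooth closed point of a syntomic scheme over an algebraically closed field

Near such a point the scheme has a first order deformation over the dual numbers without a section through the point.
-/

set_option autoImplicit false
universe u

open AlgebraicGeometry CategoryTheory CategoryTheory.Limits

namespace K277.DensLoc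

open MvPolynomial TensorProduct

section Alg

variable {K : Type u} [Field K]

/-- First order Taylor expansion. -/
theorem snd_aeval {n : ℕ} (t : Fin n → DualNumber K) (P : MvPolynomial (Fin n) K) :
    TrivSqZeroExt.fst (aeval t P) = aeval (fun i => TrivSqZeroExt.fst (t i)) P ∧
    TrivSqZeroExt.snd (aeval t P) =
      ∑ i, TrivSqZeroExt.snd (t i) * aeval (fun i => TrivSqZeroExt.fst (t i)) (pderiv i P) := by
  induction P using MvPolynomial.induction_on with
  | C a =>
    constructor
    · simp [TrivSqZeroExt.algebraMap_eq_inl]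
    · simp [TrivSqZeroExt.algebraMap_eq_inl]
  | add P Q hP hQ =>
    constructor
    · simp [hP.1, hQ.1]
    · simp [hP.2, hQ.2, mul_add, Finset.sum_add_distrib]
  | mul_X P i hP =>
    constructor
    · simp [hP.1]
    · have h1 : ∀ j, TrivSqZeroExt.snd (t j) *
          aeval (fun i => TrivSqZeroExt.fst (t i)) (pderiv j (P * X i)) =
          (if j = i then aeval (fun i => TrivSqZeroExt.fst (t i)) P * TrivSqZeroExt.snd (t i) else 0) +
          TrivSqZeroExt.fst (t i) *
            (TrivSqZeroExt.snd (t j) * aeval (fun i => TrivSqZeroExt.fst (t i)) (pderiv j P)) := by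
        intro j
        by_cases h : j = i
        · subst h
          simp
          ring
        · simp [pderiv_X_of_ne (Ne.symm h), h]
          ring
      rw [Finset.sum_congr rfl (fun j _ => h1 j), Finset.sum_add_distrib, ← Finset.mul_sum, ← hP.2]
      simp [hP.1, TrivSqZeroExt.snd_mul]
      ring

variable {n c : ℕ} (F : Fin c → MvPolynomial (Fin n) K)

/-- The first order deformation of the presentation. -/
noncomputable def defo (h : Fin c → K) (j : Fin c) : MvPolynomial (Fin n) (DualNumber K) :=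
  MvPolynomial.map (algebraMap K (DualNumber K)) (F j) + C (TrivSqZeroExt.inr (h j))

theorem mapRel_defo (h : Fin c → K) (L : Type u) [CommRing L] [IsReduced L] [Algebra (DualNumber K) L] [Algebra K L]
    (hL : algebraMap K L = (algebraMap (DualNumber K) L).comp (algebraMap K (DualNumber K))) :
    K562.Rel.mapRel (defo F h) L = K562.Rel.mapRel F L := by
  funext j
  have h1 : algebraMap (DualNumber K) L (TrivSqZeroExt.inr (h j)) = 0 := by
    have h2 : algebraMap (DualNumber K) L (TrivSqZeroExt.inr (h j)) ^ 2 = 0 := by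
      rw [← map_pow, pow_two, TrivSqZeroExt.inr_mul_inr, map_zero]
    exact pow_eq_zero_iff (two_ne_zero) |>.1 h2
  change MvPolynomial.map (algebraMap (DualNumber K) L) (defo F h j) = MvPolynomial.map (algebraMap K L) (F j)
  rw [defo, map_add, MvPolynomial.map_map, ← hL, MvPolynomial.map_C, h1, C_0, add_zero]

theorem dim_relGCI (hF : Synt.IsRelGCI K n c F) (hnt : Nontrivial (Synt.RelGCIRing K n c F)) :
    c ≤ n ∧ ringKrullDim (Synt.RelGCIRing K n c F) = ((n - c : ℕ) : WithBot ℕ∞) := by
  have h1 := hF ⟨⊥, Ideal.isPrime_bot⟩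
  have h2 : Nontrivial ((⊥ : Ideal K).Fiber (Synt.RelGCIRing K n c F)) :=
    inferInstanceAs (Nontrivial ((⊥ : Ideal K).ResidueField ⊗[K] Synt.RelGCIRing K n c F))
  obtain ⟨h3, h4⟩ := h1 h2
  refine ⟨h3, ?_⟩
  rw [← h4]
  exact (K562.Rel.ringKrullDim_tensor K (⊥ : Ideal K).ResidueField (Synt.RelGCIRing K n c F)).symm

theorem dim_field (L : Type u) [Field L] [Algebra K L] :
    ringKrullDim (Synt.RelGCIRing L n c (K562.Rel.mapRel F L)) = ringKrullDim (Synt.RelGCIRing K n c F) := by
  have h2 : ringKrullDim (L ⊗[K] (Synt.RelGCIRing K n c F)) =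
      ringKrullDim (Synt.RelGCIRing L n c (K562.Rel.mapRel F L)) :=
    ringKrullDim_eq_of_ringEquiv (K562.Rel.baseChangeEquiv F L).toRingEquiv
  rw [← h2, K562.Rel.ringKrullDim_tensor]

/-- The deformation is a relative global complete intersection. -/
theorem isRelGCI_defo (hF : Synt.IsRelGCI K n c F) (hnt : Nontrivial (Synt.RelGCIRing K n c F)) (h : Fin c → K) :
    Synt.IsRelGCI (DualNumber K) n c (defo F h) := by
  obtain ⟨hcn, hdim⟩ := dim_relGCI F hF hnt
  refine K562.Rel.isRelGCI_of_le _ fun p hp _ => ⟨hcn, ?_⟩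
  let _ : Algebra K p.ResidueField :=
    ((algebraMap (DualNumber K) p.ResidueField).comp (algebraMap K (DualNumber K))).toAlgebra
  have h1 : ringKrullDim (p.Fiber (Synt.RelGCIRing (DualNumber K) n c (defo F h))) =
      ringKrullDim (Synt.RelGCIRing p.ResidueField n c (K562.Rel.mapRel (defo F h) p.ResidueField)) :=
    ringKrullDim_eq_of_ringEquiv (K562.Rel.baseChangeEquiv (defo F h) p.ResidueField).toRingEquiv
  rw [mapRel_defo F h p.ResidueField rfl] at h1
  exact (h1.trans ((dim_field F p.ResidueField).trans hdim)).le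

/-- Base change of a presentation. -/
theorem exists_isPushout {R R' : Type u} [CommRing R] [CommRing R'] [Algebra R R']
    (G : Fin c → MvPolynomial (Fin n) R) (G' : Fin c → MvPolynomial (Fin n) R') (hG : K562.Rel.mapRel G R' = G') :
    ∃ θ : Synt.RelGCIRing R n c G →+* Synt.RelGCIRing R' n c G',
      (∀ P, θ (Ideal.Quotient.mk _ P) = Ideal.Quotient.mk _ (MvPolynomial.map (algebraMap R R') P)) ∧
      IsPushout (CommRingCat.ofHom (algebraMap R R'))
        (CommRingCat.ofHom (algebraMap R (Synt.RelGCIRing R n c G)))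
        (CommRingCat.ofHom (algebraMap R' (Synt.RelGCIRing R' n c G'))) (CommRingCat.ofHom θ) := by
  subst hG
  let e := K562.Rel.baseChangeEquiv G R'
  let θ : Synt.RelGCIRing R n c G →+* Synt.RelGCIRing R' n c (K562.Rel.mapRel G R') :=
    (e : R' ⊗[R] Synt.RelGCIRing R n c G →+* _).comp
      (Algebra.TensorProduct.includeRight : Synt.RelGCIRing R n c G →ₐ[R] R' ⊗[R] Synt.RelGCIRing R n c G).toRingHom
  refine ⟨θ, fun P => K562.Rel.baseChangeEquiv_tmul G R' P, ?_⟩
  refine (CommRingCat.isPushout_tensorProduct R R' (Synt.RelGCIRing R n c G)).of_iso (Iso.refl _) (Iso.refl _)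
    (Iso.refl _) (RingEquiv.toCommRingCatIso e.toRingEquiv) ?_ ?_ ?_ ?_
  · simp
  · simp
  · exact CommRingCat.hom_ext (RingHom.ext fun r => e.commutes r)
  · exact CommRingCat.hom_ext (RingHom.ext fun r => rfl)

/-- A section of the deformation through the given point solves the linearised equations. -/
theorem linear_of_section (p : Fin n → K) (h : Fin c → K)
    (σ : Synt.RelGCIRing (DualNumber K) n c (defo F h) →ₐ[DualNumber K] DualNumber K)
    (hσ : ∀ i, TrivSqZeroExt.fst (σ (Ideal.Quotient.mk _ (X i))) = p i) :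
    ∃ a : Fin n → K, ∀ j, ∑ i, a i * aeval p (pderiv i (F j)) + h j = 0 := by
  let t : Fin n → DualNumber K := fun i => σ (Ideal.Quotient.mk _ (X i))
  have ht : (fun i => TrivSqZeroExt.fst (t i)) = p := funext hσ
  refine ⟨fun i => TrivSqZeroExt.snd (t i), fun j => ?_⟩
  have h1 : ∀ P : MvPolynomial (Fin n) (DualNumber K), σ (Ideal.Quotient.mk _ P) = aeval t P := by
    intro P
    have h2 : σ.comp (Ideal.Quotient.mkₐ (DualNumber K) _) = aeval t := by
      refine MvPolynomial.algHom_ext fun i => ?_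
      rw [aeval_X]
      rfl
    rw [← h2]
    rfl
  have h2 : aeval t (defo F h j) = 0 := by
    rw [← h1]
    have h3 : (Ideal.Quotient.mk (Ideal.span (Set.range (defo F h))) (defo F h j)) = 0 :=
      Ideal.Quotient.eq_zero_iff_mem.2 (Ideal.subset_span ⟨j, rfl⟩)
    rw [h3, map_zero]
  rw [defo, map_add, aeval_map_algebraMap, aeval_C] at h2
  have h3 := congrArg TrivSqZeroExt.snd h2
  rw [TrivSqZeroExt.snd_add, (snd_aeval t (F j)).2, ht] at h3
  exact h3

/-- The linearised equations have no solution for suitable constants at a nonsmooth point. -/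
theorem exists_vec (q : Ideal (Synt.RelGCIRing K n c F)) [q.IsPrime] (p : Fin n → K)
    (hp : ∀ P, Ideal.Quotient.mk (Ideal.span (Set.range F)) P ∈ q → aeval p P = 0)
    (hns : ¬ Algebra.IsSmoothAt K q) :
    ∃ h : Fin c → K, ∀ a : Fin n → K, ∃ j, ∑ i, a i * aeval p (pderiv i (F j)) + h j ≠ 0 := by
  classical
  let M : Matrix (Fin c) (Fin n) K := Matrix.of fun j i => aeval p (pderiv i (F j))
  have hli : ¬ LinearIndependent K M.row := by
    intro hli
    obtain ⟨τ, hτ⟩ := Groth.Agent.Lefpen.H718.Minor.exists_minor _ hli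
    have hinj : Function.Injective τ := by
      by_contra hinj
      apply hτ
      rw [Function.Injective] at hinj
      push Not at hinj
      obtain ⟨a, b, hab, hne⟩ := hinj
      refine Matrix.det_zero_of_column_eq hne fun i => ?_
      simp [hab]
    refine hns (K563.Jac.isSmoothAt_of_minor F q ⟨τ, hinj⟩ fun hdet => hτ ?_)
    rw [← hp _ hdet, AlgHom.map_det]
    rfl
  obtain ⟨g, hg, j0, hj0⟩ := Fintype.not_linearIndependent_iff.1 hli
  refine ⟨Pi.single j0 1, fun a => ?_⟩
  by_contra hc
  push Not at hc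
  apply hj0
  have h1 : ∑ j, g j * (∑ i, a i * aeval p (pderiv i (F j)) + Pi.single (M := fun _ => K) j0 1 j) = 0 :=
    Finset.sum_eq_zero fun j _ => by rw [hc j, mul_zero]
  have h2 : ∀ i, ∑ j, g j * aeval p (pderiv i (F j)) = 0 := by
    intro i
    have h3 := congrFun hg i
    simpa [M, Finset.sum_apply] using h3
  have h3 : ∑ j, g j * (∑ i, a i * aeval p (pderiv i (F j))) = 0 := by
    simp_rw [Finset.mul_sum]
    rw [Finset.sum_comm]
    refine Finset.sum_eq_zero fun i _ => ?_
    rw [← mul_zero (a i), ← h2 i, Finset.mul_sum]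
    exact Finset.sum_congr rfl fun j _ => by ring
  simp_rw [mul_add] at h1
  rw [Finset.sum_add_distrib, h3, zero_add, Finset.sum_eq_single j0 (fun b _ hb => by
    rw [Pi.single_eq_of_ne hb, mul_zero]) (fun hb => absurd (Finset.mem_univ _) hb), Pi.single_eq_same,
    mul_one] at h1
  exact h1

/-- Closed points of an algebra of finite type over an algebraically closed field are rational. -/
theorem exists_point [IsAlgClosed K] {A : Type u} [CommRing A] [Algebra K A] [Algebra.FiniteType K A]
    (m : Ideal A) [m.IsMaximal] : ∃ ψ : A →ₐ[K] K, ∀ a, ψ a = 0 ↔ a ∈ m := by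
  let _ : Field (A ⧸ m) := Ideal.Quotient.field m
  have h1 : Algebra.FiniteType K (A ⧸ m) := inferInstance
  have h2 : Module.Finite K (A ⧸ m) := finite_of_finite_type_of_isJacobsonRing K (A ⧸ m)
  have h3 : Function.Bijective (algebraMap K (A ⧸ m)) := IsAlgClosed.algebraMap_bijective_of_isIntegral
  let e : K ≃ₐ[K] (A ⧸ m) := AlgEquiv.ofBijective (Algebra.ofId K (A ⧸ m)) h3
  refine ⟨e.symm.toAlgHom.comp (Ideal.Quotient.mkₐ K m), fun a => ?_⟩
  change e.symm (Ideal.Quotient.mk m a) = 0 ↔ _
  rw [EmbeddingLike.map_eq_zero_iff, Ideal.Quotient.eq_zero_iff_mem]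

end Alg

/-- A smooth point of a chart is a smooth point. -/
theorem smoothAt_of_chart {R A : Type u} [CommRing R] [CommRing A] [Algebra R A] [Algebra.FinitePresentation R A]
    {X : Scheme.{u}} (f : X ⟶ Spec (CommRingCat.of R)) (jj : Spec (CommRingCat.of A) ⟶ X) [IsOpenImmersion jj]
    (w : jj ≫ f = Spec.map (CommRingCat.ofHom (algebraMap R A))) (q : PrimeSpectrum A)
    (hq : Algebra.IsSmoothAt R q.asIdeal) : K901.Loci.SmoothAt f (jj q) := by
  obtain ⟨g, hg, hs⟩ := Algebra.IsSmoothAt.exists_notMem_smooth (R := R) q.asIdeal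
  let j : Spec (CommRingCat.of (Localization.Away g)) ⟶ Spec (CommRingCat.of A) :=
    Spec.map (CommRingCat.ofHom (algebraMap A (Localization.Away g)))
  have hj : IsOpenImmersion j := IsOpenImmersion.of_isLocalization g
  have hsm : Smooth (j ≫ Spec.map (CommRingCat.ofHom (algebraMap R A))) := by
    rw [← Spec.map_comp, ← CommRingCat.ofHom_comp, ← IsScalarTower.algebraMap_eq]
    rw [HasRingHomProperty.Spec_iff (P := @Smooth)]
    change (algebraMap R (Localization.Away g)).Smooth
    rw [RingHom.smooth_algebraMap]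
    exact hs
  have hr : q ∈ Set.range j := by
    have h1 : Set.range j = (PrimeSpectrum.basicOpen g : Set (PrimeSpectrum A)) :=
      PrimeSpectrum.localization_away_comap_range (Localization.Away g) g
    rw [h1]
    exact hg
  obtain ⟨y, hy⟩ := hr
  have hU : Set.range (j ≫ jj).opensRange.ι = Set.range (j ≫ jj) := by
    rw [Scheme.Opens.range_ι]
    rfl
  refine ⟨(j ≫ jj).opensRange, ⟨y, by rw [Scheme.Hom.comp_apply, hy]⟩, ?_⟩
  have h2 : (IsOpenImmersion.isoOfRangeEq (j ≫ jj).opensRange.ι (j ≫ jj) hU).hom ≫ (j ≫ jj) =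
      (j ≫ jj).opensRange.ι := IsOpenImmersion.isoOfRangeEq_hom_fac _ _ _
  rw [← h2, Category.assoc, Category.assoc, w]
  infer_instance

theorem exists_loc {K : Type u} [Field K] [IsAlgClosed K] {X : Scheme.{u}} (f : X ⟶ Spec (CommRingCat.of K))
    (hf : Synt.IsSyntomicMor f) (x : X) (hx : IsClosed {x}) (hns : ¬ K901.Loci.SmoothAt f x) :
    ∃ (U : X.Opens) (hxU : x ∈ U) (Y : Scheme.{u}) (y : Y ⟶ Spec (CommRingCat.of (DualNumber K)))
      (j : (U : Scheme.{u}) ⟶ Y),
      IsPullback j (U.ι ≫ f) y (Spec.map (CommRingCat.ofHom (TrivSqZeroExt.fstHom K K K).toRingHom)) ∧ Flat y ∧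
      ∀ s : Spec (CommRingCat.of (DualNumber K)) ⟶ Y, s ≫ y = 𝟙 _ →
        s (IsLocalRing.closedPoint (DualNumber K)) ≠ j ⟨x, hxU⟩ := by
  obtain ⟨n, c, F, jj, hF, hjj, hxj, w⟩ : ∃ (n c : ℕ) (F : Fin c → MvPolynomial (Fin n) K)
      (j : Spec (CommRingCat.of (Synt.RelGCIRing K n c F)) ⟶ X), Synt.IsRelGCI K n c F ∧ IsOpenImmersion j ∧
      x ∈ Set.range j ∧ j ≫ f = Spec.map (CommRingCat.ofHom (algebraMap K (Synt.RelGCIRing K n c F))) := by
    obtain ⟨W, hW, hxW, -⟩ := exists_isAffineOpen_mem_and_subset (X := X) (x := x) (U := ⊤) trivial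
    let φ : CommRingCat.of K ⟶ Γ(X, W) := Spec.preimage (hW.fromSpec ≫ f)
    have hφ : Spec.map φ = hW.fromSpec ≫ f := Spec.map_preimage _
    have hA : letI := φ.hom.toAlgebra
        Synt.IsSyntomic (CommRingCat.of K) Γ(X, W) := by
      have h1 := K563.SchNhd.isSyntomicMor_openImmersion_comp hW.fromSpec f hf
      rw [← hφ] at h1
      let _ := φ.hom.toAlgebra
      exact (K563.SchNhd.isSyntomicMor_spec_iff (CommRingCat.of K) Γ(X, W)).mp h1
    obtain ⟨n, c, F, j, -, hF, hj, hxj, w⟩ := K563.SchNhd.exists_relGCI_chart_of_spec' f φ hW.fromSpec (𝟙 _)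
      (by rw [Category.comp_id, hφ]) hA (hW.primeIdealOf ⟨x, hxW⟩) x (hW.fromSpec_primeIdealOf ⟨x, hxW⟩)
    rw [Category.comp_id] at w
    exact ⟨n, c, F, j, hF, hj, hxj, w⟩
  obtain ⟨q, rfl⟩ := hxj
  have hfp : Algebra.FinitePresentation K (Synt.RelGCIRing K n c F) := K562.RelReg.finitePresentation_relGCI F
  have hjinj : Function.Injective jj := jj.isOpenEmbedding.injective
  have hqc : IsClosed ({q} : Set (PrimeSpectrum (Synt.RelGCIRing K n c F))) := by
    have h1 := hx.preimage jj.continuous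
    have h2 : jj ⁻¹' {jj q} = {q} := by
      ext z
      exact ⟨fun h => hjinj h, fun h => congrArg jj h⟩
    rw [h2] at h1
    exact h1
  have hqm : q.asIdeal.IsMaximal := (PrimeSpectrum.isClosed_singleton_iff_isMaximal q).1 hqc
  obtain ⟨ψ, hψ⟩ := exists_point (K := K) q.asIdeal
  let p : Fin n → K := fun i => ψ (Ideal.Quotient.mk _ (MvPolynomial.X i))
  have hp : ∀ P, ψ (Ideal.Quotient.mk _ P) = aeval p P := by
    intro P
    have h2 : ψ.comp (Ideal.Quotient.mkₐ K _) = aeval p := by
      refine MvPolynomial.algHom_ext fun i => ?_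
      rw [aeval_X]
      rfl
    rw [← h2]
    rfl
  have hns' : ¬ Algebra.IsSmoothAt K q.asIdeal := fun h => hns (smoothAt_of_chart f jj w q h)
  obtain ⟨h, hvec⟩ := exists_vec F q.asIdeal p (fun P hP => by rw [← hp, hψ]; exact hP) hns'
  have hnt : Nontrivial (Synt.RelGCIRing K n c F) :=
    ⟨⟨0, 1, fun h0 => hqm.ne_top ((Ideal.eq_top_iff_one _).mpr (h0 ▸ zero_mem _))⟩⟩
  let _ : Algebra (DualNumber K) K := (TrivSqZeroExt.fstHom K K K).toRingHom.toAlgebra
  have hG : K562.Rel.mapRel (defo F h) K = F := by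
    rw [mapRel_defo F h K (by ext; rfl)]
    funext j
    exact MvPolynomial.map_id _
  obtain ⟨θ, hθ, hpo⟩ := exists_isPushout (defo F h) F hG
  have hpb := isPullback_SpecMap_of_isPushout _ _ _ _ hpo
  have hr : Set.range jj.opensRange.ι = Set.range jj := by
    rw [Scheme.Opens.range_ι]
    rfl
  let e := IsOpenImmersion.isoOfRangeEq jj.opensRange.ι jj hr
  have he : e.hom ≫ jj = jj.opensRange.ι := IsOpenImmersion.isoOfRangeEq_hom_fac _ _ _
  have hq0 : jj q ∈ jj.opensRange := ⟨q, rfl⟩
  refine ⟨jj.opensRange, hq0, Spec (CommRingCat.of (Synt.RelGCIRing (DualNumber K) n c (defo F h))),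
    Spec.map (CommRingCat.ofHom (algebraMap (DualNumber K) _)), e.hom ≫ Spec.map (CommRingCat.ofHom θ), ?_, ?_, ?_⟩
  · refine hpb.flip.of_iso e.symm (Iso.refl _) (Iso.refl _) (Iso.refl _) ?_ ?_ ?_ ?_
    · simp
    · simp only [Iso.refl_hom, Category.comp_id, Iso.symm_hom]
      rw [← w, ← he, Category.assoc, e.inv_hom_id_assoc]
    · simp
    · simp
      rfl
  · rw [HasRingHomProperty.Spec_iff (P := @Flat)]
    change (algebraMap (DualNumber K) (Synt.RelGCIRing (DualNumber K) n c (defo F h))).Flat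
    rw [RingHom.flat_algebraMap_iff]
    exact (K562.RelReg.isSyntomic_relGCI _ (isRelGCI_defo F hF hnt h)).1
  · intro s hs hsx
    obtain ⟨σ, rfl⟩ := Spec.map_surjective s
    have h1 : ∀ r, σ.hom (algebraMap (DualNumber K) (Synt.RelGCIRing (DualNumber K) n c (defo F h)) r) = r := by
      intro r
      rw [← Spec.map_comp, ← Spec.map_id] at hs
      exact congrArg (fun g : CommRingCat.of (DualNumber K) ⟶ CommRingCat.of (DualNumber K) => g.hom r)
        (Spec.map_injective hs)
    let σ' : Synt.RelGCIRing (DualNumber K) n c (defo F h) →ₐ[DualNumber K] DualNumber K :=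
      { σ.hom with commutes' := h1 }
    have h20 : ∀ z : (jj.opensRange : Scheme.{u}), jj (e.hom z) = jj.opensRange.ι z := fun z => by
      rw [← Scheme.Hom.comp_apply, he]
    have h2 : e.hom ⟨jj q, hq0⟩ = q := hjinj (h20 ⟨jj q, hq0⟩)
    have hsx' : Spec.map σ (IsLocalRing.closedPoint (DualNumber K)) = Spec.map (CommRingCat.ofHom θ) q :=
      hsx.trans (congrArg (Spec.map (CommRingCat.ofHom θ)) h2)
    obtain ⟨a, ha⟩ := linear_of_section F p h σ' (fun i => by
      have h3 : θ (Ideal.Quotient.mk _ (MvPolynomial.X i - C (TrivSqZeroExt.inl (p i)))) ∈ q.asIdeal := by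
        rw [hθ, ← hψ, hp, map_sub, MvPolynomial.map_X, MvPolynomial.map_C, map_sub, aeval_X, aeval_C]
        change p i - p i = 0
        exact sub_self _
      have h4 : (Ideal.Quotient.mk _ (MvPolynomial.X i - C (TrivSqZeroExt.inl (p i))) :
          Synt.RelGCIRing (DualNumber K) n c (defo F h)) ∈
          (Spec.map (CommRingCat.ofHom θ) q).asIdeal := h3
      rw [← hsx'] at h4
      have h5 : σ' (Ideal.Quotient.mk _ (MvPolynomial.X i - C (TrivSqZeroExt.inl (p i)))) ∈
        IsLocalRing.maximalIdeal (DualNumber K) := h4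
      rw [IsLocalRing.mem_maximalIdeal, mem_nonunits_iff, TrivSqZeroExt.isUnit_iff_isUnit_fst,
        isUnit_iff_ne_zero, not_not, map_sub, map_sub, TrivSqZeroExt.fst_sub, sub_eq_zero] at h5
      rw [h5]
      have h6 : σ' (Ideal.Quotient.mk _ (C (TrivSqZeroExt.inl (p i)))) = TrivSqZeroExt.inl (p i) := h1 _
      rw [h6, TrivSqZeroExt.fst_inl])
    obtain ⟨j, hj⟩ := hvec a
    exact hj (ha j)

end K277.DensLoc
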